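import Mathlib.AlgebraicGeometry.IdealSheaf.Subscheme
import Mathlib.AlgebraicGeometry.Noetherian
import Mathlib.RingTheory.Ideal.KrullsHeightTheorem
import Mathlib.RingTheory.DiscreteValuationRing.TFAE
import Mathlib.RingTheory.Filtration
import Mathlib.RingTheory.Ideal.MinimalPrime.Localization

/-!
# Local rings at maximal points of locally principal closed subschemes
-/

set_option autoImplicit false
universe u
open CategoryTheory AlgebraicGeometry TopologicalSpace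

namespace Groth.Agent.DivLocal

variable {X : Scheme.{u}} {D : X.IdealSheafData} {ξ : X} {U : X.affineOpens}

theorem fromSpec_mem_support_iff (q : PrimeSpectrum Γ(X, U.1)) :
    U.2.fromSpec q ∈ (D.support : Set X) ↔ D.ideal U ≤ q.asIdeal := by
  have hmem : U.2.fromSpec q ∈ U.1 := U.2.range_fromSpec.le (Set.mem_range_self q)
  have hb : ∀ s : Γ(X, U.1), U.2.fromSpec q ∈ X.basicOpen s ↔ s ∉ q.asIdeal := fun s => by
    rw [← PrimeSpectrum.mem_basicOpen, ← U.2.fromSpec_preimage_basicOpen s]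
    rfl
  show U.2.fromSpec q ∈ D.supportSet ↔ _
  rw [Scheme.IdealSheafData.mem_supportSet_iff_of_mem hmem, Scheme.mem_zeroLocus_iff]
  exact ⟨fun h s hs => not_not.mp fun hq => h s hs ((hb s).mpr hq), fun h s hs hx => (hb s).mp hx (h hs)⟩

theorem mem_minimalPrimes (hξU : ξ ∈ U.1) (hξ : ξ ∈ (D.support : Set X))
    (hgen : ∀ y ∈ (D.support : Set X), y ⤳ ξ → y = ξ) :
    (U.2.primeIdealOf ⟨ξ, hξU⟩).asIdeal ∈ (D.ideal U).minimalPrimes := by
  set p := U.2.primeIdealOf ⟨ξ, hξU⟩ with hp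
  have hpξ : U.2.fromSpec p = ξ := U.2.fromSpec_primeIdealOf ⟨ξ, hξU⟩
  refine ⟨⟨p.isPrime, (fromSpec_mem_support_iff p).mp (by rw [hpξ]; exact hξ)⟩, ?_⟩
  rintro q ⟨hq, hIq⟩ hqp
  have hy : U.2.fromSpec ⟨q, hq⟩ ⤳ ξ := by
    rw [← hpξ]
    exact ((PrimeSpectrum.le_iff_specializes ⟨q, hq⟩ p).mp hqp).map U.2.fromSpec.continuous
  have h := hgen _ ((fromSpec_mem_support_iff ⟨q, hq⟩).mpr hIq) hy
  rw [← hpξ] at h
  have := U.2.isOpenImmersion_fromSpec
  exact (congrArg PrimeSpectrum.asIdeal (U.2.fromSpec.isOpenEmbedding.injective h)).ge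

variable [IsLocallyNoetherian X]

instance : IsNoetherianRing Γ(X, U.1) := IsLocallyNoetherian.component_noetherian U

theorem dim_stalk_eq_height (hξU : ξ ∈ U.1) :
    ringKrullDim (X.presheaf.stalk ξ) = (U.2.primeIdealOf ⟨ξ, hξU⟩).asIdeal.height := by
  let _ : Algebra Γ(X, U.1) (X.presheaf.stalk ξ) :=
    TopCat.Presheaf.algebra_section_stalk X.presheaf (⟨ξ, hξU⟩ : U.1)
  have : IsLocalization.AtPrime (X.presheaf.stalk ξ) (U.2.primeIdealOf ⟨ξ, hξU⟩).asIdeal :=
    U.2.isLocalization_stalk ⟨ξ, hξU⟩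
  exact IsLocalization.AtPrime.ringKrullDim_eq_height _ _

theorem dim_le_one (hξU : ξ ∈ U.1) (hξ : ξ ∈ (D.support : Set X))
    (hgen : ∀ y ∈ (D.support : Set X), y ⤳ ξ → y = ξ) {f : Γ(X, U.1)} (hf : D.ideal U = Ideal.span {f}) :
    ringKrullDim (X.presheaf.stalk ξ) ≤ 1 := by
  rw [dim_stalk_eq_height hξU]
  have : (D.ideal U).IsPrincipal := ⟨f, hf⟩
  exact_mod_cast Ideal.height_le_one_of_isPrincipal_of_mem_minimalPrimes _ _ (mem_minimalPrimes hξU hξ hgen)

theorem dim_eq_one (hξU : ξ ∈ U.1) (hξ : ξ ∈ (D.support : Set X))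
    (hgen : ∀ y ∈ (D.support : Set X), y ⤳ ξ → y = ξ) {f : Γ(X, U.1)} (hfn : f ∈ nonZeroDivisors Γ(X, U.1))
    (hf : D.ideal U = Ideal.span {f}) : ringKrullDim (X.presheaf.stalk ξ) = 1 := by
  refine le_antisymm (dim_le_one hξU hξ hgen hf) ?_
  rw [dim_stalk_eq_height hξU]
  have hne : (U.2.primeIdealOf ⟨ξ, hξU⟩).asIdeal.height ≠ 0 := fun h => by
    rw [Ideal.height_eq_zero_iff] at h
    exact Set.disjoint_left.mp (Ideal.disjoint_nonZeroDivisors_of_mem_minimalPrimes h)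
      ((mem_minimalPrimes hξU hξ hgen).1.2 (hf ▸ Ideal.mem_span_singleton_self f)) hfn
  exact_mod_cast Order.one_le_iff_ne_zero.mpr hne

/-- A Noetherian local ring with maximal ideal generated by a regular element is a discrete valuation ring. -/
theorem exists_isDVR (A : Type u) [CommRing A] [IsNoetherianRing A] [IsLocalRing A] (t : A)
    (ht : t ∈ nonZeroDivisors A) (hm : IsLocalRing.maximalIdeal A = Ideal.span {t}) :
    ∃ _ : IsDomain A, IsDiscreteValuationRing A := by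
  classical
  have htu : ¬IsUnit t := (IsLocalRing.mem_maximalIdeal t).mp (hm ▸ Ideal.mem_span_singleton_self t)
  have hdec : ∀ x : A, x ≠ 0 → ∃ n u, IsUnit u ∧ x = u * t ^ n := by
    intro x hx
    have hex : ∃ n, ¬t ^ n ∣ x := by
      by_contra hc
      push Not at hc
      refine hx ?_
      have : x ∈ ⨅ i, (IsLocalRing.maximalIdeal A) ^ i := Submodule.mem_iInf _ |>.mpr fun i => by
        rw [hm, Ideal.span_singleton_pow, Ideal.mem_span_singleton]; exact hc i
      rwa [Ideal.iInf_pow_eq_bot_of_isLocalRing _ (IsLocalRing.maximalIdeal.isMaximal A).ne_top,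
        Submodule.mem_bot] at this
    obtain ⟨n, hn⟩ : ∃ n, Nat.find hex = n + 1 := Nat.exists_eq_succ_of_ne_zero fun h0 => by
      have := Nat.find_spec hex
      rw [h0] at this
      simp at this
    obtain ⟨u, rfl⟩ : t ^ n ∣ x := not_not.mp (Nat.find_min hex (by omega))
    refine ⟨n, u, ?_, mul_comm _ _⟩
    by_contra hu
    rw [← mem_nonunits_iff, ← IsLocalRing.mem_maximalIdeal, hm, Ideal.mem_span_singleton] at hu
    have := Nat.find_spec hex
    rw [hn] at this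
    exact this (by rw [pow_succ]; exact mul_dvd_mul_left _ hu)
  have hdom : IsDomain A := by
    have : NoZeroDivisors A := ⟨fun {a b} hab => by
      by_contra hc
      push Not at hc
      obtain ⟨n, u, hu, rfl⟩ := hdec a hc.1
      obtain ⟨m, v, hv, rfl⟩ := hdec b hc.2
      have h2 : (u * v) * t ^ (n + m) = 0 := by rw [← hab]; ring
      rw [(hu.mul hv).mul_right_eq_zero] at h2
      have : (1 : A) = 0 := (mem_nonZeroDivisors_iff_right.mp (pow_mem ht (n + m))) 1 (by rw [one_mul, h2])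
      exact one_ne_zero this⟩
    exact NoZeroDivisors.to_isDomain A
  refine ⟨hdom, ?_⟩
  have hnf : ¬IsField A := fun h => by
    obtain ⟨b, hb⟩ := h.mul_inv_cancel (nonZeroDivisors.ne_zero ht)
    exact htu (IsUnit.of_mul_eq_one _ hb)
  have hp : (IsLocalRing.maximalIdeal A).IsPrincipal := ⟨⟨t, hm⟩⟩
  exact ((IsDiscreteValuationRing.TFAE A hnf).out 4 0).mp hp

theorem exists_isDVR_stalk [IsIntegral D.subscheme] (hξU : ξ ∈ U.1) (hξ : ξ ∈ (D.support : Set X))
    (hgen : ∀ y ∈ (D.support : Set X), y ⤳ ξ → y = ξ) {f : Γ(X, U.1)} (hfn : f ∈ nonZeroDivisors Γ(X, U.1))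
    (hf : D.ideal U = Ideal.span {f}) :
    ∃ _ : IsDomain (X.presheaf.stalk ξ), IsDiscreteValuationRing (X.presheaf.stalk ξ) := by
  have hne : Nonempty (D.subschemeι ⁻¹ᵁ U.1) := by
    rw [← Scheme.IdealSheafData.range_subschemeι] at hξ
    obtain ⟨y, rfl⟩ := hξ
    exact ⟨⟨y, hξU⟩⟩
  have hprime : (D.ideal U).IsPrime := by
    rw [← D.ker_subschemeι_app U]
    exact RingHom.ker_isPrime _
  have hmin := mem_minimalPrimes hξU hξ hgen
  have hp : (U.2.primeIdealOf ⟨ξ, hξU⟩).asIdeal = Ideal.span {f} :=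
    hf ▸ le_antisymm (hmin.2 ⟨hprime, le_rfl⟩ hmin.1.2) hmin.1.2
  let _ : Algebra Γ(X, U.1) (X.presheaf.stalk ξ) :=
    TopCat.Presheaf.algebra_section_stalk X.presheaf (⟨ξ, hξU⟩ : U.1)
  have hloc : IsLocalization.AtPrime (X.presheaf.stalk ξ) (U.2.primeIdealOf ⟨ξ, hξU⟩).asIdeal :=
    U.2.isLocalization_stalk ⟨ξ, hξU⟩
  refine exists_isDVR _ (algebraMap Γ(X, U.1) (X.presheaf.stalk ξ) f) ?_ ?_
  · exact IsLocalization.map_nonZeroDivisors_le (U.2.primeIdealOf ⟨ξ, hξU⟩).asIdeal.primeCompl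
      (X.presheaf.stalk ξ) (Submonoid.mem_map_of_mem _ hfn)
  · rw [← IsLocalization.AtPrime.map_eq_maximalIdeal (U.2.primeIdealOf ⟨ξ, hξU⟩).asIdeal (X.presheaf.stalk ξ),
      hp, Ideal.map_span, Set.image_singleton]

end Groth.Agent.DivLocal
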